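import Cfsg.Agent.Lib.Leech.Pairs

/-! The lattice modulo 2 as an irreducible module; a representation modulo 13. -/
set_option autoImplicit false
set_option linter.all false
set_option maxRecDepth 20000

namespace CfsgLib.Leech

open Cfsg CfsgLib.Golay

theorem fix_mod_two (g : Co0)
    (h : ∀ v : leechLattice, Cong ((g • v : leechLattice) : GolayPt → ℤ) (v : GolayPt → ℤ)) :
    g ∈ Subgroup.center Co0 := by
  classical
  have hst : StabCross g := by
    intro v hv
    rw [← cross_axis] at hv ⊢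
    obtain ⟨-, hn, z, hz, e⟩ := hv
    obtain ⟨z1, hz1, e1⟩ := h v
    exact ⟨SetLike.coe_mem _, by rw [co0_norm, hn], z - z1, sub_mem hz hz1,
      by rw [smul_sub, ← e, ← e1]; abel⟩
  obtain ⟨σ, c, hσ, hc, hform⟩ := stab_form hst
  have hpair : ∀ a b : GolayPt, a ≠ b → (σ a = a ∨ σ a = b) ∧
      (σ a = a → σ b = b → (a ∈ c ↔ b ∈ c)) := by
    intro a b hab
    have hm := two_mem hab (p := 4) (q := 4) (Or.inl rfl) (Or.inl rfl)
    have hN := norm_two hab (p := 4) (q := 4) (Or.inl rfl) (Or.inl rfl)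
    obtain ⟨y, hy, hyx⟩ : ∃ y : GolayPt → ℤ, y = flipOn c (permMap σ (two a b 4 4)) ∧
        (y = two a b 4 4 ∨ y = -two a b 4 4) := by
      refine ⟨_, rfl, ?_⟩
      obtain ⟨z, hz, e⟩ := h ⟨_, hm⟩
      rw [hform] at e
      have hyN : sqNorm (flipOn c (permMap σ (two a b 4 4))) = 32 := by
        rw [← hform ⟨_, hm⟩, co0_norm]; exact hN
      by_cases he : flipOn c (permMap σ (two a b 4 4)) = two a b 4 4
      · exact Or.inl he
      · rcases cong_short hm he (by omega) (by omega) ⟨z, hz, e⟩ with e' | ⟨e', -⟩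
        · exact Or.inr e'
        · omega
    have hva : y (σ a) ≠ 0 := by
      rw [hy]
      simp only [flipOn, permMap, Equiv.symm_apply_apply, two]
      split_ifs <;> norm_num
    refine ⟨?_, fun ha hb => ?_⟩
    · by_contra hne
      push Not at hne
      apply hva
      rcases hyx with e | e <;> rw [e] <;> simp [two, hne.1, hne.2]
    · have h1 : y a = if a ∈ c then -4 else 4 := by
        rw [hy]
        simp only [flipOn, permMap]
        rw [show σ.symm a = a from (Equiv.symm_apply_eq σ).2 ha.symm]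
        simp [two]
      have h2 : y b = if b ∈ c then -4 else 4 := by
        rw [hy]
        simp only [flipOn, permMap]
        rw [show σ.symm b = b from (Equiv.symm_apply_eq σ).2 hb.symm]
        simp [two, hab.symm]
      rcases hyx with e | e <;> rw [e] at h1 h2 <;> simp [two, hab.symm] at h1 h2 <;>
        by_cases hca : a ∈ c <;> by_cases hcb : b ∈ c <;> simp [hca, hcb] at h1 h2 ⊢
  have hσ1 : ∀ a, σ a = a := fun a => by
    obtain ⟨b, hb⟩ := exists_ne a
    obtain ⟨d, hd, hdb⟩ : ∃ d : GolayPt, d ≠ a ∧ d ≠ b := by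
      obtain ⟨d, -, hd⟩ := Finset.exists_mem_notMem_of_card_lt_card (s := ({a, b} : Finset GolayPt))
        (t := Finset.univ) (lt_of_le_of_lt Finset.card_le_two (by rw [Finset.card_univ, card_pt]; norm_num))
      simp only [Finset.mem_insert, Finset.mem_singleton, not_or] at hd
      exact ⟨d, hd⟩
    rcases (hpair a b hb.symm).1 with e | e
    · exact e
    · rcases (hpair a d hd.symm).1 with e' | e'
      · exact e'
      · exact absurd (e'.symm.trans e) hdb
  refine (center_eq g).2 ?_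
  by_cases h0 : none ∈ c
  · right
    have hu : c = Finset.univ := Finset.eq_univ_iff_forall.2 fun a => by
      by_cases ha : a = none
      · exact ha ▸ h0
      · exact ((hpair a none ha).2 (hσ1 a) (hσ1 none)).2 h0
    refine co0_ext fun v => ?_
    rw [hform, negA_apply]
    funext i
    simp [flipOn, permMap, hu, (Equiv.symm_apply_eq σ).2 (hσ1 i).symm]
  · left
    have hu : c = ∅ := Finset.eq_empty_iff_forall_notMem.2 fun a ha => by
      by_cases hn : a = none
      · exact h0 (hn ▸ ha)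
      · exact h0 (((hpair a none hn).2 (hσ1 a) (hσ1 none)).1 ha)
    refine co0_ext fun v => ?_
    rw [hform, one_smul]
    funext i
    simp [flipOn, permMap, hu, (Equiv.symm_apply_eq σ).2 (hσ1 i).symm]

/-- an auxiliary vector -/
def five2 : GolayPt → ℤ := ofL [5, 1, 1, 1, 1, 1, 1, 1, 1, 1, 1, 1, 1, 1, 1, 1, 1, 1, 1, 1, 1, 1, 1, 1]

/-- an auxiliary vector -/
def tet2 : GolayPt → ℤ := ofL [4, 4, 4, 4, 0, 0, 0, 0, 0, 0, 0, 0, 0, 0, 0, 0, 0, 0, 0, 0, 0, 0, 0, 0]

theorem irred_facts : (MemB fiveV ∧ MemB five2 ∧ MemB tetV ∧ MemB tet2 ∧ MemB eightV) ∧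
    sqNorm fiveV = 48 ∧ sqNorm five2 = 48 ∧ sqNorm (fiveV - five2) = 32 ∧
    sqNorm tetV = 64 ∧ sqNorm tet2 = 64 ∧ sqNorm (tetV - tet2) = 32 ∧ sqNorm eightV = 64 := by
  decide +kernel

theorem mod_two_irreducible (M : AddSubgroup (GolayPt → ℤ))
    (h2 : ∀ v ∈ leechLattice, (2 : ℤ) • v ∈ M) (hM : M ≤ leechLattice)
    (hg : ∀ g : Co0, ∀ v : leechLattice, (v : GolayPt → ℤ) ∈ M →
      ((g • v : leechLattice) : GolayPt → ℤ) ∈ M) :
    (∀ x ∈ M, ∃ w ∈ leechLattice, x = (2 : ℤ) • w) ∨ M = leechLattice := by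
  obtain ⟨⟨m1, m2, m3, m4, m5⟩, n1, n2, n3, n4, n5, n6, n7⟩ := irred_facts
  by_cases h : ∀ x ∈ M, ∃ w ∈ leechLattice, x = (2 : ℤ) • w
  · exact Or.inl h
  right
  have t32 : ∀ x ∈ M, sqNorm x = 32 → M = leechLattice := fun x hx hn => by
    refine le_antisymm hM ?_
    rw [← minGrp_eq]
    refine (AddSubgroup.closure_le _).2 fun y hy => ?_
    obtain ⟨g, e⟩ := to_co0 (v := ⟨x, hM hx⟩) (w := ⟨y, hy.1⟩)
      ((equi_omega (hM hx) hn).trans (equi_omega hy.1 hy.2).symm)
    have := hg g ⟨x, hM hx⟩ hx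
    rwa [e] at this
  have a48 : ∀ x ∈ M, sqNorm x = 48 → ∀ y ∈ leechLattice, sqNorm y = 48 → y ∈ M :=
    fun x hx hn y hy hyn => by
    obtain ⟨g, e⟩ := to_co0 (v := ⟨x, hM hx⟩) (w := ⟨y, hy⟩)
      ((equi_three (hM hx) hn).trans (equi_three hy hyn).symm)
    have := hg g ⟨x, hM hx⟩ hx
    rwa [e] at this
  have a64 : ∀ x ∈ M, sqNorm x = 64 → ∀ y ∈ leechLattice, sqNorm y = 64 → y ∈ M :=
    fun x hx hn y hy hyn => by
    obtain ⟨g, z, hz, e⟩ := crosses_transitive ⟨x, hM hx⟩ ⟨y, hy⟩ hn hyn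
    have e' : y = ((g • (⟨x, hM hx⟩ : leechLattice) : leechLattice) : GolayPt → ℤ) + (2 : ℤ) • (-z) := by
      rw [show (2 : ℤ) • (-z) = -(2 • z) by rw [smul_neg, ← natCast_zsmul]; rfl, ← e]; abel
    rw [e']
    exact M.add_mem (hg g _ hx) (h2 _ (neg_mem hz))
  push Not at h
  obtain ⟨x, hx, hx2⟩ := h
  obtain ⟨y, hy, hyn, -, z, hz, e⟩ := short_all (hM hx)
  have hyM : y ∈ M := by
    have : y = x - (2 : ℤ) • z := by
      rw [show ((2 : ℤ) • z) = 2 • z from (natCast_zsmul z 2), ← e]; abel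
    rw [this]; exact M.sub_mem hx (h2 z hz)
  have hy0 : y ≠ 0 := fun h0 => hx2 z hz (by
    rw [h0, sub_zero] at e; rw [e, ← natCast_zsmul]; rfl)
  obtain ⟨k, hk⟩ := sixteen_dvd hy
  have := sqNorm_ge_32 hy hy0
  have : k = 2 ∨ k = 3 ∨ k = 4 := by omega
  rcases this with rfl | rfl | rfl
  · exact t32 y hyM (by omega)
  · exact t32 _ (M.sub_mem (a48 y hyM (by omega) _ (mem_of_memB m1) n1)
      (a48 y hyM (by omega) _ (mem_of_memB m2) n2)) n3
  · exact t32 _ (M.sub_mem (a64 y hyM (by omega) _ (mem_of_memB m3) n4)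
      (a64 y hyM (by omega) _ (mem_of_memB m4) n5)) n6

/-- reduction modulo 13 -/
def bar : (GolayPt → ℤ) →+ (GolayPt → ZMod 13) := (Int.castAddHom (ZMod 13)).compLeft GolayPt

/-- the matrix action of an automorphism modulo 13 -/
def rep (g : Co0) : (GolayPt → ZMod 13) →ₗ[ZMod 13] (GolayPt → ZMod 13) where
  toFun x := ∑ i, (x i * 5) • bar ((g • axisL i : leechLattice) : GolayPt → ℤ)
  map_add' x y := by simp only [Pi.add_apply, add_mul, add_smul, Finset.sum_add_distrib]
  map_smul' t x := by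
    simp only [Pi.smul_apply, smul_eq_mul, Finset.smul_sum, smul_smul, RingHom.id_apply, mul_assoc]

theorem rep_bar (g : Co0) (v : leechLattice) :
    rep g (bar (v : GolayPt → ℤ)) = bar ((g • v : leechLattice) : GolayPt → ℤ) := by
  have e := congrArg (fun w : leechLattice => (w : GolayPt → ℤ)) (congrArg (co0Hom g) (eight_smul_eq v))
  simp only [map_zsmul, map_sum] at e
  rw [AddSubgroup.coe_zsmul, AddSubgroup.val_finsetSum] at e
  have e' := congrArg bar e
  simp only [AddSubgroup.coe_zsmul, coe_co0Hom, map_zsmul, map_sum] at e'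
  show ∑ i, (bar (v : GolayPt → ℤ) i * 5) • bar ((g • axisL i : leechLattice) : GolayPt → ℤ) = _
  have h5 : ∀ i, (bar (v : GolayPt → ℤ) i * 5) • bar ((g • axisL i : leechLattice) : GolayPt → ℤ) =
      (5 : ZMod 13) • ((v : GolayPt → ℤ) i • bar ((g • axisL i : leechLattice) : GolayPt → ℤ)) := fun i => by
    funext j
    simp [bar]
    ring
  simp only [h5, ← Finset.smul_sum, ← e']
  funext j
  simp only [Pi.smul_apply, zsmul_eq_mul, smul_eq_mul]
  push_cast
  show (5 : ZMod 13) * (8 * bar _ j) = _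
  rw [← mul_assoc, show (5 : ZMod 13) * 8 = 1 from rfl, one_mul]

theorem bar_surj (x : GolayPt → ZMod 13) : ∃ v : leechLattice, bar (v : GolayPt → ℤ) = x := by
  refine ⟨⟨fun i => 4 * (2 * (5 * ((x i).val : ℤ))), four_vec_mem ?_⟩, funext fun i => ?_⟩
  · rw [← Finset.mul_sum]; exact dvd_mul_right _ _
  · show ((4 * (2 * (5 * ((x i).val : ℤ))) : ℤ) : ZMod 13) = x i
    push_cast
    rw [ZMod.natCast_zmod_val, ← mul_assoc, ← mul_assoc, show (4 : ZMod 13) * 2 * 5 = 1 from rfl,
      one_mul]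

/-- the linear functional of the fixed vector -/
def ell : (GolayPt → ZMod 13) →ₗ[ZMod 13] ZMod 13 where
  toFun x := ∑ i, x i * bar Spor.vecU i
  map_add' x y := by simp only [Pi.add_apply, add_mul, Finset.sum_add_distrib]
  map_smul' t x := by simp only [Pi.smul_apply, smul_eq_mul, Finset.mul_sum, RingHom.id_apply, mul_assoc]

theorem ell_bar (v : GolayPt → ℤ) : ell (bar v) = (dotInt v Spor.vecU : ZMod 13) := by
  simp [ell, bar, dotInt]

instance : Fact (Nat.Prime 13) := ⟨by norm_num⟩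

set_option maxHeartbeats 800000 in
theorem co2_mod13 : ∃ f : Spor.Co2 →* GL (Fin 23) (ZMod 13), Function.Injective f := by
  classical
  obtain ⟨P, hP⟩ : ∃ P, P = LinearMap.ker ell := ⟨_, rfl⟩
  have hu : ell (bar Spor.vecU) ≠ 0 := by decide +kernel
  have hdim : Module.finrank (ZMod 13) P = 23 := by
    have h := LinearMap.finrank_range_add_finrank_ker ell
    have hr : LinearMap.range ell = ⊤ := by
      rw [eq_top_iff]
      intro t _
      exact ⟨(t / ell (bar Spor.vecU)) • bar Spor.vecU, by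
        rw [map_smul, smul_eq_mul, div_mul_cancel₀ _ hu]⟩
    rw [hr, finrank_top, Module.finrank_self, Module.finrank_fintype_fun_eq_card, card_pt, ← hP] at h
    omega
  obtain ⟨up, hup⟩ : ∃ up : Spor.Co2 →* Co0, ∀ g : Spor.Co2, (up g : Equiv.Perm leechLattice) = g :=
    ⟨Subgroup.inclusion inf_le_left, fun g => rfl⟩
  have hfix : ∀ g : Spor.Co2, up g • Spor.leechU = Spor.leechU := fun g => by
    show (up g : Equiv.Perm leechLattice) Spor.leechU = Spor.leechU
    rw [hup]
    exact g.2.2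
  have hmaps : ∀ g : Spor.Co2, ∀ x ∈ P, rep (up g) x ∈ P := by
    intro g x hx
    obtain ⟨v, rfl⟩ := bar_surj x
    rw [hP, LinearMap.mem_ker, ell_bar] at hx
    rw [rep_bar, hP, LinearMap.mem_ker, ell_bar, ← hx,
      show Spor.vecU = ((up g • Spor.leechU : leechLattice) : GolayPt → ℤ) by rw [hfix]; rfl, co0_dot, hfix]
  obtain ⟨F, hF⟩ : ∃ F : Spor.Co2 →* Module.End (ZMod 13) P,
      ∀ g (x : P), ((F g x : P) : GolayPt → ZMod 13) = rep (up g) x :=
    ⟨{ toFun := fun g => (rep (up g)).restrict (hmaps g)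
       map_one' := LinearMap.ext fun x => by
        refine Subtype.ext ?_
        show rep (up 1) x = x
        obtain ⟨v, hv⟩ := bar_surj (x : GolayPt → ZMod 13)
        rw [← hv, rep_bar, _root_.map_one, one_smul]
       map_mul' := fun g h => LinearMap.ext fun x => by
        refine Subtype.ext ?_
        show rep (up (g * h)) x = rep (up g) (rep (up h) x)
        obtain ⟨v, hv⟩ := bar_surj (x : GolayPt → ZMod 13)
        rw [← hv, rep_bar, rep_bar, rep_bar, map_mul, mul_smul] }, fun g x => rfl⟩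
  obtain ⟨b⟩ : Nonempty (Module.Basis (Fin 23) (ZMod 13) P) :=
    ⟨Module.finBasisOfFinrankEq _ _ hdim⟩
  refine ⟨(Units.map (LinearMap.toMatrixAlgEquiv b).toMulEquiv.toMonoidHom).comp F.toHomUnits, ?_⟩
  rw [injective_iff_map_eq_one]
  intro g hg
  have hF1 : F g = 1 := by
    have h := congrArg Units.val hg
    simp only [MonoidHom.comp_apply, Units.coe_map, MonoidHom.coe_toHomUnits, Units.val_one] at h
    exact (LinearMap.toMatrixAlgEquiv b).injective (h.trans (_root_.map_one _).symm)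
  have hid : ∀ x, rep (up g) x = x := by
    intro x
    obtain ⟨t, ht⟩ : ∃ t, t = ell x / ell (bar Spor.vecU) := ⟨_, rfl⟩
    have hm : x - t • bar Spor.vecU ∈ P := by
      rw [hP, LinearMap.mem_ker, map_sub, map_smul, smul_eq_mul, ht, div_mul_cancel₀ _ hu, sub_self]
    have h1 := hF g ⟨_, hm⟩
    rw [hF1] at h1
    have h2 : rep (up g) (bar Spor.vecU) = bar Spor.vecU := by
      show rep (up g) (bar ((Spor.leechU : leechLattice) : GolayPt → ℤ)) = _
      rw [rep_bar, hfix]; rfl
    have h3 : rep (up g) (x - t • bar Spor.vecU) = x - t • bar Spor.vecU := h1.symm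
    rw [map_sub, map_smul, h2, sub_left_inj] at h3
    exact h3
  have hmin : ∀ y ∈ minVecs, ∀ hy : y ∈ leechLattice,
      ((up g • (⟨y, hy⟩ : leechLattice) : leechLattice) : GolayPt → ℤ) = y := by
    intro y hy hyL
    obtain ⟨z, hz⟩ : ∃ z, z = ((up g • (⟨y, hyL⟩ : leechLattice) : leechLattice) : GolayPt → ℤ) := ⟨_, rfl⟩
    rw [← hz]
    have hzn : sqNorm z = 32 := by rw [hz, co0_norm]; exact hy.2
    have hb : bar z = bar y := by rw [hz, ← rep_bar, hid]
    have hsum := sqNorm_add z y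
    have hdif := sqNorm_sub z y
    have := sqNorm_nonneg (z + y)
    funext i
    have hd : (13 : ℤ) ∣ z i - y i := by
      rw [show (13 : ℤ) = ((13 : ℕ) : ℤ) from rfl, ← ZMod.intCast_zmod_eq_zero_iff_dvd]
      have := congrFun hb i
      simpa [bar, sub_eq_zero] using this
    obtain ⟨k, hk⟩ := hd
    have hle : (z i - y i) ^ 2 ≤ 128 := by
      refine (Finset.single_le_sum (f := fun j => (z - y) j ^ 2) (fun j _ => sq_nonneg _)
        (Finset.mem_univ i)).trans ?_
      show sqNorm (z - y) ≤ 128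
      have := hy.2
      omega
    rw [hk, mul_pow] at hle
    have hk0 : k = 0 := by
      by_contra hne
      have : 0 < k ^ 2 := by positivity
      omega
    rw [hk0] at hk; omega
  have hall : ∀ y ∈ minGrp, ∀ hy : y ∈ leechLattice,
      ((up g • (⟨y, hy⟩ : leechLattice) : leechLattice) : GolayPt → ℤ) = y := by
    intro y hy
    induction hy using AddSubgroup.closure_induction with
    | mem x hx => exact hmin x hx
    | zero =>
      intro h0
      show ((up g • (0 : leechLattice) : leechLattice) : GolayPt → ℤ) = 0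
      rw [← coe_co0Hom, map_zero]; rfl
    | add x y hx hy ihx ihy =>
      intro hxy
      have hx' : x ∈ leechLattice := minGrp_eq ▸ hx
      have hy' : y ∈ leechLattice := minGrp_eq ▸ hy
      show ((up g • ((⟨x, hx'⟩ : leechLattice) + ⟨y, hy'⟩) : leechLattice) : GolayPt → ℤ) = x + y
      rw [co0_add, AddSubgroup.coe_add, ihx hx', ihy hy']
    | neg x hx ih =>
      intro hnx
      have hx' : x ∈ leechLattice := minGrp_eq ▸ hx
      show ((up g • (-(⟨x, hx'⟩ : leechLattice)) : leechLattice) : GolayPt → ℤ) = -x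
      rw [← coe_co0Hom, map_neg, AddSubgroup.coe_neg, coe_co0Hom, ih hx']
  refine Subtype.ext (Equiv.ext fun v => Subtype.ext ?_)
  rw [← hup g]
  exact hall _ (minGrp_eq.symm ▸ v.2) v.2

end CfsgLib.Leech
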