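import Cfsg.Agent.Lib.Leech.Auto

/-! Standard vectors and certificates for the orbits of the lattice automorphism group (computed offline,
checked where used). -/
set_option autoImplicit false
set_option linter.all false

namespace CfsgLib.Leech

open Cfsg CfsgLib.Golay

/-- a vector given by its list of coordinates -/
def ofL (l : List ℤ) : GolayPt → ℤ := fun i => l.getD (idx i) 0

/-- a standard vector -/
def pairV : GolayPt → ℤ := ofL [4, 0, 0, 0, 0, 0, 0, 0, 0, 0, 0, 0, 0, 0, 0, 0, 0, 0, 0, 0, 0, 0, 0, 4]

/-- a standard vector -/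
def octV : GolayPt → ℤ := ofL [2, 2, 2, 2, 0, 2, 0, 0, 0, 0, 0, 0, 0, 0, 2, 0, 0, 2, 0, 0, 0, 0, 0, 2]

/-- a standard vector -/
def omegaV : GolayPt → ℤ := ofL [1, 1, 1, 1, 1, 1, 1, 1, 1, 1, 1, 1, 1, 1, 1, 1, 1, 1, 1, 1, 1, 1, 1, -3]

/-- a standard vector -/
def dodV : GolayPt → ℤ := ofL [2, 2, 2, 2, 2, 0, 2, 0, 2, 2, 0, 0, 2, 2, 0, 0, 2, 0, 2, 0, 0, 0, 0, 0]

/-- a standard vector -/
def fourV : GolayPt → ℤ := ofL [-2, 2, 2, 2, 4, 2, 0, 0, 0, 0, 0, 0, 0, 0, 2, 0, 0, 2, 0, 0, 0, 0, 0, 2]

/-- a standard vector -/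
def threeV : GolayPt → ℤ := ofL [-3, -3, 1, 1, 1, 1, 1, 1, 1, 1, 1, 1, 1, 1, 1, 1, 1, 1, 1, 1, 1, 1, 1, -3]

/-- a standard vector -/
def fiveV : GolayPt → ℤ := ofL [1, 1, 1, 1, 1, 1, 1, 1, 1, 1, 1, 1, 1, 1, 1, 1, 1, 1, 1, 1, 1, 1, 1, 5]

/-- a standard vector -/
def eightV : GolayPt → ℤ := ofL [0, 0, 0, 0, 0, 0, 0, 0, 0, 0, 0, 0, 0, 0, 0, 0, 0, 0, 0, 0, 0, 0, 0, 8]

/-- a standard vector -/
def tetV : GolayPt → ℤ := ofL [4, 4, 4, 0, 0, 0, 0, 0, 0, 0, 0, 0, 0, 0, 0, 0, 0, 0, 0, 0, 0, 0, 0, 4]

/-- a standard vector -/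
def sixV : GolayPt → ℤ := ofL [-2, 2, 2, 2, 0, 2, 0, 0, 0, 0, 0, 0, 0, 0, 2, 0, 0, 2, 0, 0, 0, 0, 0, 6]

/-- a standard vector -/
def ppV : GolayPt → ℤ := ofL [2, 2, 2, 2, 4, 2, 4, 0, 0, 0, 0, 0, 0, 0, 2, 0, 0, 2, 0, 0, 0, 0, 0, 2]

/-- a standard vector -/
def dfV : GolayPt → ℤ := ofL [-2, 2, 2, 2, 2, 4, 2, 0, 2, 2, 0, 0, 2, 2, 0, 0, 2, 0, 2, 0, 0, 0, 0, 0]

/-- a standard vector -/
def etV : GolayPt → ℤ := ofL [-3, -3, 1, 1, 1, 1, 1, 1, 1, 1, 1, 1, 1, 1, 1, 1, 1, 1, 1, 1, 1, 1, 1, 5]

/-- maps moving the second outside point of the standard pair -/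
def outPerms : List ℕ := [984818244535754528103549039458486304, 24999758598957956586992349984906318, 134498389950410512034939148180160546, 26382869863589029201955574103378021, 63103952080280803883719354575150190, 132954509005033142211541992519177969, 137056609834469561513372278524543022, 27640183114390050026378014278977058, 140504279453128781590954592010681057, 61268810671442127066770479438561826, 19892619101433431100308538869843025, 153470912380987596102107009470469678, 24272034231478144722883137021646289, 145679185310513590035660357530305989, 27681150682401886834489697354549367]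

/-- a link -/
def link_pairV : ℕ × ℕ := (955976305995358692400003018625453266, 16066854)

/-- a link -/
def link_octV : ℕ × ℕ := (956085195133363055212480936219446308, 12995469)

/-- a link -/
def link_dodV : ℕ × ℕ := (984818244535754528103549039458486304, 1327290)

/-- a link -/
def link_fourV : ℕ × ℕ := (956085195133363055212480936219446308, 5864048)

/-- a link -/
def link_fiveV : ℕ × ℕ := (984818244535754528103549039458486304, 12295040)

/-- a link -/
def link_tetV : ℕ × ℕ := (984818244535754528103549039458486304, 3734914)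

/-- a link -/
def link_sixV : ℕ × ℕ := (984818244535754528103549039458486304, 4549484)

/-- a link -/
def link_ppV : ℕ × ℕ := (956302485175575353788796878166559809, 5627071)

/-- a link -/
def link_dfV : ℕ × ℕ := (64385756714138618920770164911919493, 9486564)

/-- a link -/
def link_etV : ℕ × ℕ := (984818244535754528103549039458486304, 542009)

/-- witnesses for the sign changes on the support -/
def wit_pairV : List (ℕ × ℕ) := [(0, 1302533), (23, 13938692)]

/-- witnesses for the sign changes on the support -/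
def wit_octV : List (ℕ × ℕ) := [(0, 11575377), (1, 10825794), (2, 13938692), (3, 16056344), (17, 10170384), (5, 12685424), (14, 15515712)]

/-- witnesses for the sign changes on the support -/
def wit_dodV : List (ℕ × ℕ) := [(0, 7767041), (1, 5129250), (2, 8126628), (3, 13009064), (4, 10257456), (13, 11952160), (6, 15515712), (12, 2019456), (8, 2409888), (9, 13911680), (16, 11469952)]

/-- witnesses for the sign changes on the support -/
def wit_fourV : List (ℕ × ℕ) := [(0, 14254209), (1, 10825794), (2, 13938692), (3, 10232008), (4, 6889680), (5, 11055264), (14, 15515712), (17, 15864000)]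

/-- witnesses for the sign changes on the support -/
def wit_eightV : List (ℕ × ℕ) := [(23, 13062145)]

/-- witnesses for the sign changes on the support -/
def wit_tetV : List (ℕ × ℕ) := [(0, 6053905), (1, 4845570), (2, 5210132), (23, 10170384)]

/-- witnesses for the sign changes on the support -/
def wit_sixV : List (ℕ × ℕ) := [(0, 11575377), (1, 10825794), (2, 13938692), (3, 16056344), (17, 10170384), (5, 12685424), (14, 15515712)]

/-- witnesses for the sign changes on the support -/
def wit_ppV : List (ℕ × ℕ) := [(0, 14254209), (1, 16262146), (2, 13938692), (3, 12661896), (4, 3421328), (5, 11055264), (6, 6100032), (14, 11654144), (17, 11469952)]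

/-- witnesses for the sign changes on the support -/
def wit_dfV : List (ℕ × ℕ) := [(0, 7767041), (1, 11831426), (2, 8834052), (3, 3951624), (4, 6703248), (5, 16436384), (6, 15515712), (12, 2019456), (8, 14551296), (9, 13911680), (16, 11469952), (13, 5024896)]

end CfsgLib.Leech
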