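import Cfsg.Agent.Lib.Leech.Mono

/-! Orbits of the automorphism group on pairs of short vectors. -/
set_option autoImplicit false
set_option linter.all false
set_option maxRecDepth 20000
set_option maxHeartbeats 1000000

namespace CfsgLib.Leech

open Cfsg CfsgLib.Golay
open scoped Pointwise

/-- the vector with two coordinates `p`, `q` -/
def two (a b : GolayPt) (p q : ℤ) : GolayPt → ℤ := fun i => if i = a then p else if i = b then q else 0

theorem dot_comm (x y : GolayPt → ℤ) : dotInt x y = dotInt y x :=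
  Finset.sum_congr rfl fun i _ => mul_comm _ _

theorem sum_two {a b : GolayPt} (h : a ≠ b) (f : GolayPt → ℤ) (p q : ℤ) :
    ∑ i, f i * two a b p q i = f a * p + f b * q := by
  rw [Finset.sum_eq_add a b h (fun i _ hi => by simp [two, hi.1, hi.2])
    (fun hh => absurd (Finset.mem_univ _) hh) (fun hh => absurd (Finset.mem_univ _) hh)]
  simp [two, h.symm]

theorem dot_two {a b : GolayPt} (h : a ≠ b) (w : GolayPt → ℤ) (p q : ℤ) :
    dotInt w (two a b p q) = w a * p + w b * q := sum_two h w p q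

theorem norm_two {a b : GolayPt} (h : a ≠ b) {p q : ℤ} (hp : p = 4 ∨ p = -4) (hq : q = 4 ∨ q = -4) :
    sqNorm (two a b p q) = 32 := by
  rw [← dot_self, dot_two h]
  simp only [two, if_pos, if_neg h.symm]
  rcases hp with rfl | rfl <;> rcases hq with rfl | rfl <;> norm_num

theorem two_mem {a b : GolayPt} (h : a ≠ b) {p q : ℤ} (hp : p = 4 ∨ p = -4) (hq : q = 4 ∨ q = -4) :
    two a b p q ∈ leechLattice := by
  have e : two a b p q = fun i => 4 * two a b (p / 4) (q / 4) i := funext fun i => by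
    simp only [two]; split_ifs <;> omega
  rw [e]
  refine four_vec_mem ?_
  have hs : ∑ i, two a b (p / 4) (q / 4) i = p / 4 + q / 4 := by
    have := sum_two h (fun _ => (1 : ℤ)) (p / 4) (q / 4)
    simpa using this
  rw [hs]; omega

theorem co0_dot (g : Co0) (v w : leechLattice) :
    dotInt ((g • v : leechLattice) : GolayPt → ℤ) ((g • w : leechLattice) : GolayPt → ℤ) =
      dotInt (v : GolayPt → ℤ) (w : GolayPt → ℤ) := by
  have h := co0_norm g (v + w)
  rw [co0_add, AddSubgroup.coe_add, AddSubgroup.coe_add, sqNorm_add, sqNorm_add, co0_norm,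
    co0_norm] at h
  omega

theorem sep {a b : GolayPt} (h : a ≠ b) : ∃ c, IsW c ∧ a ∈ c ∧ b ∉ c := by
  obtain ⟨g, hg, hne⟩ := separate a b h
  by_cases ha : g.testBit (idx a) = true
  · exact ⟨toSet g, gens_isW hg, mem_toSet.2 ha, fun hb => hne (by rw [ha, mem_toSet.1 hb])⟩
  · refine ⟨(toSet g)ᶜ, isW_compl (gens_isW hg), ?_, ?_⟩
    · rw [Finset.mem_compl, mem_toSet]; exact ha
    · rw [Finset.mem_compl, not_not, mem_toSet]
      revert ha hne
      cases g.testBit (idx a) <;> cases g.testBit (idx b) <;> simp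

theorem sep_pattern {a b : GolayPt} (h : a ≠ b) (P R : Prop) :
    ∃ c, IsW c ∧ (a ∈ c ↔ P) ∧ (b ∈ c ↔ R) := by
  by_cases hP : P <;> by_cases hR : R
  · exact ⟨Finset.univ, isW_univ, by simp [hP], by simp [hR]⟩
  · obtain ⟨c, hc, ha, hb⟩ := sep h
    exact ⟨c, hc, by simp [hP, ha], by simp [hR, hb]⟩
  · obtain ⟨c, hc, hb, ha⟩ := sep h.symm
    exact ⟨c, hc, by simp [hP, ha], by simp [hR, hb]⟩
  · exact ⟨∅, isW_empty, by simp [hP], by simp [hR]⟩

/-- two orthogonal minimal vectors are moved to two standard ones -/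
theorem frame {a b : GolayPt} (hab : a ≠ b) {v y : leechLattice}
    (hv : sqNorm (v : GolayPt → ℤ) = 32) (hy : sqNorm (y : GolayPt → ℤ) = 32)
    (hvy : dotInt (v : GolayPt → ℤ) (y : GolayPt → ℤ) = 0) :
    ∃ g : Co0, ((g • v : leechLattice) : GolayPt → ℤ) = two a b 4 4 ∧
      ((g • y : leechLattice) : GolayPt → ℤ) = two a b 4 (-4) := by
  classical
  obtain ⟨g0, z, hz, ez⟩ := cross_to_eight (v + y) (by
    rw [AddSubgroup.coe_add, sqNorm_add, hv, hy, hvy]; norm_num)
  rw [co0_add, AddSubgroup.coe_add] at ez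
  obtain ⟨V, hV⟩ : ∃ V : GolayPt → ℤ, V = ((g0 • v : leechLattice) : GolayPt → ℤ) := ⟨_, rfl⟩
  obtain ⟨Y, hY⟩ : ∃ Y : GolayPt → ℤ, Y = ((g0 • y : leechLattice) : GolayPt → ℤ) := ⟨_, rfl⟩
  have hVL : V ∈ leechLattice := hV ▸ SetLike.coe_mem _
  have hYL : Y ∈ leechLattice := hY ▸ SetLike.coe_mem _
  have hV32 : sqNorm V = 32 := by rw [hV, co0_norm, hv]
  have hY32 : sqNorm Y = 32 := by rw [hY, co0_norm, hy]
  have hVY : dotInt V Y = 0 := by rw [hV, hY, co0_dot, hvy]
  rw [← hV, ← hY] at ez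
  have height : eightV = axis none := by decide +kernel
  rw [height] at ez
  have h1 : V + Y ∈ stdCross := by
    rw [← cross_axis]
    refine ⟨add_mem hVL hYL, ?_, -z, neg_mem hz, ?_⟩
    · rw [sqNorm_add, hV32, hY32, hVY, sqNorm_axis]; norm_num
    · rw [smul_neg, ← ez]; abel
  have h2 : V - Y ∈ stdCross := by
    rw [← cross_axis]
    refine ⟨sub_mem hVL hYL, ?_, Y - z, sub_mem hYL hz, ?_⟩
    · rw [sqNorm_sub, hV32, hY32, hVY, sqNorm_axis]; norm_num
    · rw [smul_sub, ← ez, two_nsmul]; abel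
  obtain ⟨i, hi⟩ := mem_stdCross.1 h1
  obtain ⟨j, hj⟩ := mem_stdCross.1 h2
  have hij : i ≠ j := by
    rintro rfl
    have zero : ∀ X : GolayPt → ℤ, (∀ k, X k + X k = 0) → sqNorm X = 32 → False := fun X h hX => by
      have e : X = 0 := funext fun k => by have := h k; simp only [Pi.zero_apply]; omega
      rw [e] at hX; simp [sqNorm] at hX
    rcases hi with hi | hi <;> rcases hj with hj | hj
    all_goals first
      | exact zero Y (fun k => by
          have := congrFun hi k; have := congrFun hj k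
          simp only [Pi.add_apply, Pi.sub_apply, Pi.neg_apply] at *; omega) hY32
      | exact zero V (fun k => by
          have := congrFun hi k; have := congrFun hj k
          simp only [Pi.add_apply, Pi.sub_apply, Pi.neg_apply] at *; omega) hV32
  obtain ⟨s1, hs1, hi'⟩ : ∃ s1 : ℤ, (s1 = 8 ∨ s1 = -8) ∧ ∀ k, V k + Y k = if k = i then s1 else 0 := by
    rcases hi with hi | hi
    · exact ⟨8, Or.inl rfl, fun k => by
        have := congrFun hi k
        simpa [axis, Pi.single_apply] using this⟩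
    · refine ⟨-8, Or.inr rfl, fun k => ?_⟩
      have := congrFun hi k
      simp only [Pi.add_apply, Pi.neg_apply, axis, Pi.single_apply] at this
      split_ifs at this ⊢ <;> omega
  obtain ⟨s2, hs2, hj'⟩ : ∃ s2 : ℤ, (s2 = 8 ∨ s2 = -8) ∧ ∀ k, V k - Y k = if k = j then s2 else 0 := by
    rcases hj with hj | hj
    · exact ⟨8, Or.inl rfl, fun k => by
        have := congrFun hj k
        simpa [axis, Pi.single_apply] using this⟩
    · refine ⟨-8, Or.inr rfl, fun k => ?_⟩
      have := congrFun hj k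
      simp only [Pi.sub_apply, Pi.neg_apply, axis, Pi.single_apply] at this
      split_ifs at this ⊢ <;> omega
  obtain ⟨a1, ha1, ei, ej⟩ := map_two hij
  obtain ⟨a2, ha2, ea, eb⟩ := map_two hab
  obtain ⟨σ, hσ⟩ : ∃ σ, σ = a2 * a1⁻¹ := ⟨_, rfl⟩
  have hσM : σ ∈ M24 := hσ ▸ mul_mem ha2 (inv_mem ha1)
  have sa : σ i = a := by rw [hσ, Equiv.Perm.mul_apply, ← ei, Equiv.Perm.inv_def, Equiv.symm_apply_apply, ea]
  have sb : σ j = b := by rw [hσ, Equiv.Perm.mul_apply, ← ej, Equiv.Perm.inv_def, Equiv.symm_apply_apply, eb]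
  obtain ⟨c, hc, hca, hcb⟩ := sep_pattern hab (s1 = -8) (s2 = -8)
  refine ⟨flipA hc * permA hσM * g0, ?_, ?_⟩ <;>
    rw [mul_smul, mono_apply] <;>
    first | rw [← hV] | rw [← hY]
  all_goals
    funext k
    have e1 := hi' (σ.symm k)
    have e2 := hj' (σ.symm k)
    simp only [flipOn, permMap, two]
    by_cases hka : k = a
    · subst hka
      have hi2 : σ.symm (σ i) = i := σ.symm_apply_apply i
      rw [sa] at hi2
      rw [hi2, if_pos rfl] at e1
      rw [hi2, if_neg hij] at e2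
      rw [hi2, if_pos rfl]
      by_cases hk : k ∈ c
      · rw [if_pos hk]; have := hca.1 hk; omega
      · rw [if_neg hk]; have : ¬ s1 = -8 := fun h => hk (hca.2 h); omega
    · have hki : σ.symm k ≠ i := fun h => hka (by rw [← sa, ← h, Equiv.apply_symm_apply])
      rw [if_neg hki] at e1
      rw [if_neg hka]
      by_cases hkb : k = b
      · subst hkb
        have hj2 : σ.symm (σ j) = j := σ.symm_apply_apply j
        rw [sb] at hj2
        rw [hj2] at e1
        rw [hj2, if_pos rfl] at e2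
        rw [hj2, if_pos rfl]
        by_cases hk : k ∈ c
        · rw [if_pos hk]; have := hcb.1 hk; omega
        · rw [if_neg hk]; have : ¬ s2 = -8 := fun h => hk (hcb.2 h); omega
      · have hkj : σ.symm k ≠ j := fun h => hkb (by rw [← sb, ← h, Equiv.apply_symm_apply])
        rw [if_neg hkj] at e2
        rw [if_neg hkb]
        split_ifs <;> omega

theorem to_pair {a b : GolayPt} (hab : a ≠ b) {v : leechLattice}
    (hv : sqNorm (v : GolayPt → ℤ) = 32) :
    ∃ g : Co0, ((g • v : leechLattice) : GolayPt → ℤ) = two a b 4 4 := by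
  have hm := two_mem hab (p := 4) (q := 4) (Or.inl rfl) (Or.inl rfl)
  obtain ⟨g, hg⟩ := to_co0 (w := ⟨_, hm⟩) ((equi_omega v.2 hv).trans
    (equi_omega hm (norm_two hab (Or.inl rfl) (Or.inl rfl))).symm)
  exact ⟨g, by rw [hg]⟩

theorem mem_vals_of_shp {x s : GolayPt → ℤ} (h : shp x = shp s) (hs : ∀ i, (s i).natAbs < 9)
    (i : GolayPt) : (x i).natAbs ∈ vals s := by
  have hlt := natAbs_lt_of_shp h hs i
  refine mem_vals hlt ?_
  rw [← shp_card h hlt]
  exact (Finset.card_pos.2 ⟨i, mem_lvl.2 rfl⟩).ne'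

theorem outside_two {x : GolayPt → ℤ} {k : ℕ} (a b : GolayPt) {n : ℕ} (h : n + 2 ≤ (lvl x k).card) :
    n ≤ (lvl x k \ {a, b}).card := by
  have h2 : ({a, b} : Finset GolayPt).card ≤ 2 := Finset.card_le_two
  have := Finset.le_card_sdiff ({a, b} : Finset GolayPt) (lvl x k)
  omega

theorem aux_two {a b c d : GolayPt} (hab : a ≠ b) (hcd : c ≠ d) (hca : c ≠ a) (hcb : c ≠ b)
    (hda : d ≠ a) (hdb : d ≠ b) (w : GolayPt → ℤ) :
    ∃ y : leechLattice, sqNorm (y : GolayPt → ℤ) = 32 ∧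
      dotInt (two a b 4 4) (y : GolayPt → ℤ) = 0 ∧
      dotInt w (y : GolayPt → ℤ) = -4 * ((w c).natAbs + (w d).natAbs) := by
  have sgn : ∀ t : ℤ, ∃ p : ℤ, (p = 4 ∨ p = -4) ∧ t * p = -4 * (t.natAbs : ℤ) := fun t => by
    by_cases h : 0 ≤ t
    · exact ⟨-4, Or.inr rfl, by omega⟩
    · exact ⟨4, Or.inl rfl, by omega⟩
  obtain ⟨p, hp, ep⟩ := sgn (w c)
  obtain ⟨q, hq, eq⟩ := sgn (w d)
  refine ⟨⟨two c d p q, two_mem hcd hp hq⟩, norm_two hcd hp hq, ?_, ?_⟩
  · show dotInt (two a b 4 4) (two c d p q) = 0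
    rw [dot_two hcd]
    simp [two, hca, hcb, hda, hdb]
  · show dotInt w (two c d p q) = _
    rw [dot_two hcd, ep, eq]; ring

theorem oct_avoid_check : ∀ a b : GolayPt,
    octList.any (fun o => !o.testBit (idx a) && !o.testBit (idx b)) = true := by
  decide +kernel

theorem aux_oct {a b : GolayPt} {w : GolayPt → ℤ} (hw : w ∈ leechLattice)
    (h : ∀ i, i ≠ a → i ≠ b → (w i).natAbs = 1) :
    ∃ y : leechLattice, sqNorm (y : GolayPt → ℤ) = 32 ∧
      dotInt (two a b 4 4) (y : GolayPt → ℤ) = 0 ∧ dotInt w (y : GolayPt → ℤ) = -16 := by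
  classical
  obtain ⟨o, ho, hab⟩ := List.any_eq_true.1 (oct_avoid_check a b)
  simp only [Bool.and_eq_true, Bool.not_eq_true'] at hab
  obtain ⟨O, hO⟩ : ∃ O, O = toSet o := ⟨_, rfl⟩
  have haO : a ∉ O := fun h => by rw [hO, mem_toSet, hab.1] at h; exact Bool.false_ne_true h
  have hbO : b ∉ O := fun h => by rw [hO, mem_toSet, hab.2] at h; exact Bool.false_ne_true h
  obtain ⟨hW, h8⟩ := oct_isW (hO ▸ toSet_mem_octads ho : O ∈ octads)
  obtain ⟨c, hc⟩ : ∃ c : Finset GolayPt, c = Finset.univ.filter fun i => w i % 4 = 3 := ⟨_, rfl⟩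
  have hcW : IsW c := by
    obtain ⟨_, -, -, hres⟩ := mem_lattice_iff_set.1 hw
    rw [hc]; exact hres 3
  obtain ⟨y, hy⟩ : ∃ y : GolayPt → ℤ, y = -flipOn c (fun i => if i ∈ O then 2 else 0) := ⟨_, rfl⟩
  have hyL : y ∈ leechLattice := hy ▸ neg_mem (flipOn_mem hcW (word_mem hW))
  have hyv : ∀ i, y i = if i ∈ O then (if i ∈ c then 2 else -2) else 0 := fun i => by
    simp only [hy, Pi.neg_apply, flipOn]; split_ifs <;> norm_num
  refine ⟨⟨y, hyL⟩, ?_, ?_, ?_⟩
  · show sqNorm y = 32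
    rw [sqNorm, Finset.sum_congr rfl (g := fun i => if i ∈ O then (4 : ℤ) else 0) fun i _ => by
      rw [hyv]; split_ifs <;> norm_num, Finset.sum_ite_mem, Finset.univ_inter, Finset.sum_const, h8]
    norm_num
  · show dotInt _ y = 0
    refine Finset.sum_eq_zero fun i _ => ?_
    rw [hyv]
    by_cases hi : i ∈ O
    · simp [two, show i ≠ a from fun e => haO (e ▸ hi), show i ≠ b from fun e => hbO (e ▸ hi)]
    · simp [hi]
  · show dotInt w y = -16
    rw [dotInt, Finset.sum_congr rfl (g := fun i => if i ∈ O then (-2 : ℤ) else 0) fun i _ => by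
      rw [hyv]
      by_cases hi : i ∈ O
      · have := h i (fun e => haO (e ▸ hi)) (fun e => hbO (e ▸ hi))
        simp only [hc, Finset.mem_filter, Finset.mem_univ, true_and, hi, if_true]
        split_ifs <;> omega
      · simp [hi], Finset.sum_ite_mem, Finset.univ_inter, Finset.sum_const, h8]
    norm_num

/-- the positions whose signs are to be changed -/
def sups (s : GolayPt → ℤ) (A B : GolayPt) : List ℕ :=
  (List.range 24).filter fun i => decide (s (pt i) ≠ 0) && decide (pt i ≠ A) && decide (pt i ≠ B)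

/-- the positions whose signs are watched -/
def keepM (s : GolayPt → ℤ) (A B : GolayPt) : ℕ := suppM s ||| 2 ^ idx A ||| 2 ^ idx B

/-- conditions for normalising signs away from two points -/
def Fix2 (s : GolayPt → ℤ) (A B : GolayPt) (W : List (ℕ × ℕ)) : Prop :=
  MemB s ∧ (∀ i, (2 : ℤ) ∣ s i ∧ (s i).natAbs < 9) ∧
    (∀ i, ((s i ≠ 0 ∨ i = A ∨ i = B) → (keepM s A B).testBit (idx i) = true) ∧
      ((coreM s).testBit (idx i) = true ↔ s i % 4 = 2)) ∧
    (spanList (pows (sups s A B))).all (fun q => !(pc (q &&& coreM s) % 2 == 0) ||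
      (inCode (choose' W q) && choose' W q &&& keepM s A B == q)) = true

theorem signs_two {s : GolayPt → ℤ} {A B : GolayPt} {W : List (ℕ × ℕ)} (hS : Fix2 s A B W)
    {x : GolayPt → ℤ} (hx : x ∈ leechLattice) (h : ∀ i, (x i).natAbs = (s i).natAbs)
    (hA : x A = s A) (hB : x B = s B) :
    ∃ c, IsW c ∧ A ∉ c ∧ B ∉ c ∧ flipOn c x = s := by
  obtain ⟨hsB, hs, hmask, hchk⟩ := hS
  obtain ⟨Q, hQ⟩ : ∃ Q : Finset GolayPt, Q = Finset.univ.filter fun i => x i ≠ s i := ⟨_, rfl⟩
  have hQs : ∀ i ∈ Q, s i ≠ 0 ∧ i ≠ A ∧ i ≠ B ∧ x i = -s i := fun i hi => by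
    simp only [hQ, Finset.mem_filter, Finset.mem_univ, true_and] at hi
    have := h i
    exact ⟨by omega, fun e => hi (e ▸ hA), fun e => hi (e ▸ hB), by omega⟩
  have hpar : 2 ∣ (Q ∩ toSet (coreM s)).card := by
    have hsum : ∀ z ∈ leechLattice, (2 : ℤ) ∣ z none → (8 : ℤ) ∣ ∑ i, z i := by
      intro z hz h2
      obtain ⟨m, u, g1, g2, g3⟩ := mem_leechLattice.1 hz
      rw [sum_rep g1]
      rw [g1 none] at h2
      omega
    have h8 : (8 : ℤ) ∣ ∑ i, (x i - s i) := by
      rw [Finset.sum_sub_distrib]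
      exact dvd_sub (hsum x hx (by have := h none; have := (hs none).1; omega))
        (hsum s (mem_of_memB hsB) (hs none).1)
    have h4 : (8 : ℤ) ∣ ∑ i, (x i - s i - if i ∈ Q ∩ toSet (coreM s) then (4 : ℤ) else 0) := by
      refine Finset.dvd_sum fun i _ => ?_
      have := (hs i).1
      by_cases hi : i ∈ Q
      · have := hQs i hi
        by_cases hc : s i % 4 = 2
        · rw [if_pos (Finset.mem_inter.2 ⟨hi, mem_toSet.2 ((hmask i).2.2 hc)⟩)]; omega
        · rw [if_neg fun h' => hc ((hmask i).2.1 (mem_toSet.1 (Finset.mem_inter.1 h').2))]; omega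
      · rw [if_neg fun h' => hi (Finset.mem_inter.1 h').1]
        simp only [hQ, Finset.mem_filter, Finset.mem_univ, true_and, not_not] at hi
        omega
    rw [Finset.sum_sub_distrib, Finset.sum_ite_mem, Finset.univ_inter, Finset.sum_const,
      nsmul_eq_mul] at h4
    omega
  have hsub : ∀ i, (toMask Q).testBit i = true → i ∈ sups s A B := by
    intro i hi
    have hi24 : i < 24 := by
      by_contra hh
      rw [Nat.testBit_lt_two_pow (lt_of_lt_of_le (toMask_lt Q)
        (Nat.pow_le_pow_right (by norm_num) (not_lt.1 hh) : 2 ^ 24 ≤ 2 ^ i))] at hi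
      exact Bool.false_ne_true hi
    rw [sups, List.mem_filter]
    have hm : pt i ∈ Q := by
      rw [← toSet_toMask Q, mem_toSet, idx_pt hi24]; exact hi
    obtain ⟨q1, q2, q3, -⟩ := hQs _ hm
    exact ⟨List.mem_range.2 hi24, by simp [q1, q2, q3]⟩
  have := List.all_eq_true.1 hchk _ (mem_submasks _ _ hsub)
  have hev : pc (toMask Q &&& coreM s) % 2 = 0 := by
    rw [← card_toSet, toSet_and, toSet_toMask]
    omega
  simp only [hev, beq_self_eq_true, Bool.not_true, Bool.false_or, Bool.and_eq_true, beq_iff_eq] at this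
  obtain ⟨hc, hcs⟩ := this
  obtain ⟨c, hcd⟩ : ∃ c, c = toSet (choose' W (toMask Q)) := ⟨_, rfl⟩
  have hcW : IsW c := by
    rw [hcd, isW_iff, toMask_toSet (lt_of_inCode hc)]; exact hc
  have hiQ : ∀ i, (s i ≠ 0 ∨ i = A ∨ i = B) → (i ∈ c ↔ i ∈ Q) := fun i hk => by
    conv_rhs => rw [← toSet_toMask Q, ← hcs, toSet_and]
    rw [Finset.mem_inter, hcd]
    exact ⟨fun h => ⟨h, mem_toSet.2 ((hmask i).1 hk)⟩, fun h => h.1⟩
  refine ⟨c, hcW, fun hh => (hQs A ((hiQ A (Or.inr (Or.inl rfl))).1 hh)).2.1 rfl,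
    fun hh => (hQs B ((hiQ B (Or.inr (Or.inr rfl))).1 hh)).2.2.1 rfl, funext fun i => ?_⟩
  by_cases h0 : s i = 0
  · have : x i = 0 := by have := h i; omega
    simp [flipOn, this, h0]
  · simp only [flipOn]
    by_cases hi : i ∈ Q
    · rw [if_pos ((hiQ i (Or.inl h0)).2 hi)]; have := hQs i hi; omega
    · rw [if_neg fun h' => hi ((hiQ i (Or.inl h0)).1 h')]
      simpa [hQ] using hi

theorem reduce_two {s : GolayPt → ℤ} {A B : GolayPt} {W : List (ℕ × ℕ)} (hS : Fix2 s A B W)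
    {σ : Equiv.Perm GolayPt} (hσ : σ ∈ M24) (sA : σ A = A) (sB : σ B = B)
    {w : leechLattice} (h : ∀ i, ((w : GolayPt → ℤ) (σ i)).natAbs = (s i).natAbs)
    (hA : (w : GolayPt → ℤ) A = s A) (hB : (w : GolayPt → ℤ) B = s B)
    (v : leechLattice) (hv : (v : GolayPt → ℤ) = two A B 4 4) :
    ∃ g : Co0, ((g • v : leechLattice) : GolayPt → ℤ) = two A B 4 4 ∧
      ((g • w : leechLattice) : GolayPt → ℤ) = s := by
  have hp : ∀ (x : GolayPt → ℤ) i, permMap σ⁻¹ x i = x (σ i) := fun x i => rfl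
  obtain ⟨c, hc, hcA, hcB, e⟩ := signs_two hS (x := permMap σ⁻¹ w)
    ((permMap_data (inv_mem hσ)).mem _ w.2) (fun i => by rw [hp]; exact h i)
    (by rw [hp, sA, hA]) (by rw [hp, sB, hB])
  refine ⟨flipA hc * permA (inv_mem hσ), ?_, ?_⟩
  · rw [mono_apply, hv]
    funext i
    simp only [flipOn, hp, two]
    by_cases hiA : i = A
    · subst hiA; simp [hcA, sA]
    · have h1 : σ i ≠ A := fun e => hiA (σ.injective (e.trans sA.symm))
      by_cases hiB : i = B
      · subst hiB; simp [hcB, sB, hiA]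
      · have h2 : σ i ≠ B := fun e => hiB (σ.injective (e.trans sB.symm))
        simp [hiA, hiB, h1, h2]
  · rw [mono_apply, e]

/-- the common pattern of the transitivity proofs -/
theorem orbit_pair {A B : GolayPt} (hAB : A ≠ B) {n d e : ℤ} {s : GolayPt → ℤ}
    (h1 : ∀ w : leechLattice, sqNorm (w : GolayPt → ℤ) = n →
      dotInt (two A B 4 4) (w : GolayPt → ℤ) = d →
      ∃ y : leechLattice, sqNorm (y : GolayPt → ℤ) = 32 ∧
        dotInt (two A B 4 4) (y : GolayPt → ℤ) = 0 ∧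
        dotInt (w : GolayPt → ℤ) (y : GolayPt → ℤ) = e)
    (h2 : ∀ v w : leechLattice, (v : GolayPt → ℤ) = two A B 4 4 → sqNorm (w : GolayPt → ℤ) = n →
      (w : GolayPt → ℤ) A * 4 + (w : GolayPt → ℤ) B * 4 = d →
      (w : GolayPt → ℤ) A * 4 + (w : GolayPt → ℤ) B * (-4) = e →
      ∃ g : Co0, ((g • v : leechLattice) : GolayPt → ℤ) = two A B 4 4 ∧
        ((g • w : leechLattice) : GolayPt → ℤ) = s)
    {v w v' w' : leechLattice} (hv : sqNorm (v : GolayPt → ℤ) = 32)
    (hw : sqNorm (w : GolayPt → ℤ) = n) (hd : dotInt (v : GolayPt → ℤ) (w : GolayPt → ℤ) = d)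
    (hv' : sqNorm (v' : GolayPt → ℤ) = 32) (hw' : sqNorm (w' : GolayPt → ℤ) = n)
    (hd' : dotInt (v' : GolayPt → ℤ) (w' : GolayPt → ℤ) = d) :
    ∃ g : Co0, g • v = v' ∧ g • w = w' := by
  have norm : ∀ v w : leechLattice, sqNorm (v : GolayPt → ℤ) = 32 →
      sqNorm (w : GolayPt → ℤ) = n → dotInt (v : GolayPt → ℤ) (w : GolayPt → ℤ) = d →
      ∃ g : Co0, ((g • v : leechLattice) : GolayPt → ℤ) = two A B 4 4 ∧
        ((g • w : leechLattice) : GolayPt → ℤ) = s := by
    intro v w hv hw hd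
    obtain ⟨g1, e1⟩ := to_pair hAB hv
    obtain ⟨y, hy, hy0, hye⟩ := h1 (g1 • w) (by rw [co0_norm, hw]) (by rw [← e1, co0_dot, hd])
    obtain ⟨g2, e2, e2'⟩ := frame hAB (v := g1 • v) (by rw [co0_norm, hv]) hy (by rw [e1]; exact hy0)
    have k1 : dotInt ((g2 • g1 • w : leechLattice) : GolayPt → ℤ) (two A B 4 4) = d := by
      rw [← e2, co0_dot, co0_dot, dot_comm, hd]
    have k2 : dotInt ((g2 • g1 • w : leechLattice) : GolayPt → ℤ) (two A B 4 (-4)) = e := by
      rw [← e2', co0_dot, hye]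
    rw [dot_two hAB] at k1 k2
    obtain ⟨g3, e3, e3'⟩ := h2 (g2 • g1 • v) (g2 • g1 • w) e2 (by rw [co0_norm, co0_norm, hw]) k1 k2
    exact ⟨g3 * g2 * g1, by rw [mul_smul, mul_smul]; exact e3, by rw [mul_smul, mul_smul]; exact e3'⟩
  obtain ⟨g, a1, a2⟩ := norm v w hv hw hd
  obtain ⟨k, b1, b2⟩ := norm v' w' hv' hw' hd'
  exact ⟨k⁻¹ * g,
    by rw [mul_smul, Subtype.ext (a1.trans b1.symm), inv_smul_smul],
    by rw [mul_smul, Subtype.ext (a2.trans b2.symm), inv_smul_smul]⟩

/-- the orbit on orthogonal pairs -/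
theorem pairs_zero {v w v' w' : leechLattice} (hv : sqNorm (v : GolayPt → ℤ) = 32)
    (hw : sqNorm (w : GolayPt → ℤ) = 32) (hd : dotInt (v : GolayPt → ℤ) (w : GolayPt → ℤ) = 0)
    (hv' : sqNorm (v' : GolayPt → ℤ) = 32) (hw' : sqNorm (w' : GolayPt → ℤ) = 32)
    (hd' : dotInt (v' : GolayPt → ℤ) (w' : GolayPt → ℤ) = 0) :
    ∃ g : Co0, g • v = v' ∧ g • w = w' := by
  have hne : bp 0 ≠ bp 1 := by decide
  obtain ⟨g, a1, a2⟩ := frame hne hv hw hd
  obtain ⟨k, b1, b2⟩ := frame hne hv' hw' hd'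
  exact ⟨k⁻¹ * g,
    by rw [mul_smul, Subtype.ext (a1.trans b1.symm), inv_smul_smul],
    by rw [mul_smul, Subtype.ext (a2.trans b2.symm), inv_smul_smul]⟩

/-- standard partner -/
def st16 : GolayPt → ℤ := ofL [0, 4, 0, 0, 0, 0, 0, 0, 0, 0, 0, 0, 0, 0, 0, 0, 0, 0, 0, 0, 0, 0, 0, -4]

/-- standard partner -/
def st8 : GolayPt → ℤ := ofL [-2, 2, 2, 2, 0, 2, 0, 0, 0, 0, 0, 0, 0, 0, 2, 0, 0, 2, 0, 0, 0, 0, 0, -2]

/-- standard partner -/
def st48 : GolayPt → ℤ := ofL [-2, 2, 2, 2, -4, 2, 0, 0, 0, 0, 0, 0, 0, 0, 2, 0, 0, 2, 0, 0, 0, 0, 0, 2]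

theorem st_fix : Fix2 st16 (bp 0) (bp 1) [(1, 4845570)] ∧
    Fix2 st8 (bp 0) (bp 6)
      [(0, 2854977), (1, 5709954), (2, 2531524), (3, 7221256), (5, 5939296), (14, 2019456)] ∧
    Fix2 st48 (bp 6) (pt 6)
      [(0, 14254209), (1, 16262146), (2, 13938692), (3, 12661896), (5, 11055264), (14, 11654144),
        (17, 11469952)] := by
  refine ⟨?_, ?_, ?_⟩ <;>
    exact ⟨by decide +kernel, by decide +kernel, by decide +kernel, by decide +kernel⟩

theorem st_facts : shp st16 = shp pairV ∧ shp st8 = shp octV ∧ shp st48 = shp fourV ∧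
    lvl st16 4 = {bp 0, bp 2} ∧ st16 (bp 0) = -4 ∧ st16 (bp 1) = 0 ∧
    lvl st8 2 = toSet octO ∧ st8 (bp 0) = -2 ∧ st8 (bp 6) = 0 ∧
    lvl st48 2 = toSet octO ∧ lvl st48 4 = {bp 6} ∧ st48 (bp 6) = -4 ∧ st48 (pt 6) = 0 ∧
    vals st16 = [0, 4] ∧ vals st8 = [0, 2] ∧ vals st48 = [0, 2, 4] := by
  refine ⟨?_, ?_, ?_, ?_, ?_, ?_, ?_, ?_, ?_, ?_, ?_, ?_, ?_, ?_, ?_, ?_⟩ <;> decide +kernel

theorem std_bounds : (∀ i, (pairV i).natAbs < 9) ∧ (∀ i, (octV i).natAbs < 9) ∧
    (∀ i, (omegaV i).natAbs < 9) ∧ (∀ i, (dodV i).natAbs < 9) ∧ (∀ i, (fourV i).natAbs < 9) ∧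
    (∀ i, (threeV i).natAbs < 9) ∧ (∀ i, (fiveV i).natAbs < 9) := by
  refine ⟨?_, ?_, ?_, ?_, ?_, ?_, ?_⟩ <;> decide +kernel

theorem pairs_sixteen {v w v' w' : leechLattice} (hv : sqNorm (v : GolayPt → ℤ) = 32)
    (hw : sqNorm (w : GolayPt → ℤ) = 32) (hd : dotInt (v : GolayPt → ℤ) (w : GolayPt → ℤ) = -16)
    (hv' : sqNorm (v' : GolayPt → ℤ) = 32) (hw' : sqNorm (w' : GolayPt → ℤ) = 32)
    (hd' : dotInt (v' : GolayPt → ℤ) (w' : GolayPt → ℤ) = -16) :
    ∃ g : Co0, g • v = v' ∧ g • w = w' := by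
  obtain ⟨sp, so, sΩ, -⟩ := shp_std
  obtain ⟨vp, vΩ, -, -, -, -, vo, -⟩ := vals_std
  obtain ⟨bP, bO, bΩ, -⟩ := std_bounds
  obtain ⟨A, hA⟩ : ∃ A, A = bp 0 := ⟨_, rfl⟩
  obtain ⟨B, hB⟩ : ∃ B, B = bp 1 := ⟨_, rfl⟩
  have hAB : A ≠ B := by rw [hA, hB]; decide
  refine orbit_pair hAB (e := -16) (s := st16) ?_ ?_ hv hw hd hv' hw' hd'
  · intro w hn hdot
    rw [dot_comm, dot_two hAB] at hdot
    rcases (classify w.2).1 hn with h | h | h
    · have hvA := mem_vals_of_shp h bP A
      have hvB := mem_vals_of_shp h bP B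
      rw [vp] at hvA hvB
      simp only [List.mem_cons, List.not_mem_nil, or_false] at hvA hvB
      have h2 : (lvl (w : GolayPt → ℤ) 4).card = 2 :=
        (shp_card h (by norm_num)).trans (by decide +kernel)
      have h22 : (lvl (w : GolayPt → ℤ) 0).card = 22 :=
        (shp_card h (by norm_num)).trans (by decide +kernel)
      obtain ⟨d, hd⟩ := Finset.card_pos.1 (outside_two A B (n := 20) h22.ge |>.trans_lt'
        (by norm_num : 0 < 20))
      have hnot : ¬ lvl (w : GolayPt → ℤ) 4 ⊆ {A, B} := fun hsub => by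
        have hu := Finset.eq_of_subset_of_card_le hsub (by rw [h2]; exact Finset.card_le_two)
        have hA' : A ∈ lvl (w : GolayPt → ℤ) 4 := by rw [hu]; simp
        have hB' : B ∈ lvl (w : GolayPt → ℤ) 4 := by rw [hu]; simp
        rw [mem_lvl] at hA' hB'
        omega
      obtain ⟨c, hc, hc'⟩ := Finset.not_subset.1 hnot
      simp only [Finset.mem_sdiff, Finset.mem_insert, Finset.mem_singleton, not_or, mem_lvl] at hd hc hc'
      obtain ⟨y, y1, y2, y3⟩ := aux_two hAB (c := c) (d := d) (fun e => by rw [e] at hc; omega)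
        hc'.1 hc'.2 hd.2.1 hd.2.2 w
      exact ⟨y, y1, y2, by rw [y3, hc, hd.1]; rfl⟩
    · obtain ⟨c, hc, d, hd, hcd⟩ := Finset.one_lt_card.1 (outside_two A B (n := 6)
        ((shp_card h (show 2 < 9 by norm_num)).trans (by decide +kernel) :
          (lvl (w : GolayPt → ℤ) 2).card = 8).ge |>.trans_lt' (by norm_num : 1 < 6))
      simp only [Finset.mem_sdiff, Finset.mem_insert, Finset.mem_singleton, not_or, mem_lvl] at hd hc
      obtain ⟨y, y1, y2, y3⟩ := aux_two hAB hcd hc.2.1 hc.2.2 hd.2.1 hd.2.2 w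
      exact ⟨y, y1, y2, by rw [y3, hc.1, hd.1]; rfl⟩
    · refine aux_oct w.2 fun i hiA hiB => ?_
      have hvA := mem_vals_of_shp h bΩ A
      have hvB := mem_vals_of_shp h bΩ B
      have hvi := mem_vals_of_shp h bΩ i
      rw [vΩ] at hvA hvB hvi
      simp only [List.mem_cons, List.not_mem_nil, or_false] at hvA hvB hvi
      refine hvi.resolve_right fun h3 => ?_
      obtain ⟨p, hp⟩ := Finset.card_eq_one.1 ((shp_card h (show 3 < 9 by norm_num)).trans
        (by decide +kernel) : (lvl (w : GolayPt → ℤ) 3).card = 1)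
      have key : ∀ j, ((w : GolayPt → ℤ) j).natAbs = 3 → j = p := fun j hj => by
        have := mem_lvl.2 hj
        rwa [hp, Finset.mem_singleton] at this
      have : ((w : GolayPt → ℤ) A).natAbs = 3 ∨ ((w : GolayPt → ℤ) B).natAbs = 3 := by omega
      rcases this with h' | h'
      · exact hiA ((key i h3).trans (key A h').symm)
      · exact hiB ((key i h3).trans (key B h').symm)
  · intro v w hvv hn h1 h2
    obtain ⟨f, f', -, fl, fA, fB, -, -, -, -, -, -, -, fv, -⟩ := st_facts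
    have hwA : (w : GolayPt → ℤ) A = -4 := by omega
    have hwB : (w : GolayPt → ℤ) B = 0 := by omega
    rcases (classify w.2).1 hn with h | h | h
    · obtain ⟨c, hc, hcA⟩ : ∃ c ∈ lvl (w : GolayPt → ℤ) 4, c ≠ A :=
        Finset.exists_mem_ne (by rw [shp_card h (show 4 < 9 by norm_num)]; decide +kernel) A
      have hcB : c ≠ B := fun e => by rw [mem_lvl, e, hwB] at hc; simp at hc
      obtain ⟨a, ha, eA, eB, eC⟩ := map_three hAB hcA.symm hcB.symm
      have hl : lvl (w : GolayPt → ℤ) 4 = {A, c} := by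
        refine (Finset.eq_of_subset_of_card_le ?_ ?_).symm
        · rw [Finset.insert_subset_iff, Finset.singleton_subset_iff]
          exact ⟨mem_lvl.2 (by rw [hwA]; rfl), hc⟩
        · rw [shp_card h (show 4 < 9 by norm_num), Finset.card_pair hcA.symm]; decide +kernel
      rw [hA, hB] at *
      have hp := pattern (h.trans f.symm) (fun i => (st_fix.1.2.1 i).2) (a := a) 0
        (one_level fv (by rw [fl, smul_pair, eA, eC, hl]))
      exact reduce_two st_fix.1 ha eA eB hp (by rw [fA, hwA]) (by rw [fB, hwB]) v hvv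
    · have := mem_vals_of_shp h bO A
      rw [vo, hwA] at this
      simp at this
    · have := mem_vals_of_shp h bΩ A
      rw [vΩ, hwA] at this
      simp at this

theorem pairs_eight {v w v' w' : leechLattice} (hv : sqNorm (v : GolayPt → ℤ) = 32)
    (hw : sqNorm (w : GolayPt → ℤ) = 32) (hd : dotInt (v : GolayPt → ℤ) (w : GolayPt → ℤ) = -8)
    (hv' : sqNorm (v' : GolayPt → ℤ) = 32) (hw' : sqNorm (w' : GolayPt → ℤ) = 32)
    (hd' : dotInt (v' : GolayPt → ℤ) (w' : GolayPt → ℤ) = -8) :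
    ∃ g : Co0, g • v = v' ∧ g • w = w' := by
  obtain ⟨sp, so, sΩ, -⟩ := shp_std
  obtain ⟨vp, vΩ, -, -, -, -, vo, -⟩ := vals_std
  obtain ⟨bP, bO, bΩ, -⟩ := std_bounds
  obtain ⟨A, hA⟩ : ∃ A, A = bp 0 := ⟨_, rfl⟩
  obtain ⟨B, hB⟩ : ∃ B, B = bp 6 := ⟨_, rfl⟩
  have hAB : A ≠ B := by rw [hA, hB]; decide
  refine orbit_pair hAB (e := -8) (s := st8) ?_ ?_ hv hw hd hv' hw' hd'
  · intro w hn hdot
    rw [dot_comm, dot_two hAB] at hdot
    rcases (classify w.2).1 hn with h | h | h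
    · have hvA := mem_vals_of_shp h bP A
      have hvB := mem_vals_of_shp h bP B
      rw [vp] at hvA hvB
      simp only [List.mem_cons, List.not_mem_nil, or_false] at hvA hvB
      omega
    · obtain ⟨c, hc⟩ := Finset.card_pos.1 (outside_two A B (n := 6)
        ((shp_card h (show 2 < 9 by norm_num)).trans (by decide +kernel) :
          (lvl (w : GolayPt → ℤ) 2).card = 8).ge |>.trans_lt' (by norm_num : 0 < 6))
      obtain ⟨d, hd⟩ := Finset.card_pos.1 (outside_two A B (n := 14)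
        ((shp_card h (show 0 < 9 by norm_num)).trans (by decide +kernel) :
          (lvl (w : GolayPt → ℤ) 0).card = 16).ge |>.trans_lt' (by norm_num : 0 < 14))
      simp only [Finset.mem_sdiff, Finset.mem_insert, Finset.mem_singleton, not_or, mem_lvl] at hd hc
      obtain ⟨y, y1, y2, y3⟩ := aux_two hAB (c := c) (d := d) (fun e => by rw [e] at hc; omega)
        hc.2.1 hc.2.2 hd.2.1 hd.2.2 w
      exact ⟨y, y1, y2, by rw [y3, hc.1, hd.1]; rfl⟩
    · obtain ⟨c, hc, d, hd, hcd⟩ := Finset.one_lt_card.1 (outside_two A B (n := 21)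
        ((shp_card h (show 1 < 9 by norm_num)).trans (by decide +kernel) :
          (lvl (w : GolayPt → ℤ) 1).card = 23).ge |>.trans_lt' (by norm_num : 1 < 21))
      simp only [Finset.mem_sdiff, Finset.mem_insert, Finset.mem_singleton, not_or, mem_lvl] at hd hc
      obtain ⟨y, y1, y2, y3⟩ := aux_two hAB hcd hc.2.1 hc.2.2 hd.2.1 hd.2.2 w
      exact ⟨y, y1, y2, by rw [y3, hc.1, hd.1]; rfl⟩
  · intro v w hvv hn h1 h2
    obtain ⟨-, f, -, -, -, -, fl, fA, fB, -, -, -, -, -, fv, -⟩ := st_facts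
    have hwA : (w : GolayPt → ℤ) A = -2 := by omega
    have hwB : (w : GolayPt → ℤ) B = 0 := by omega
    rcases (classify w.2).1 hn with h | h | h
    · have := mem_vals_of_shp h bP A
      rw [vp, hwA] at this
      simp at this
    · have h6 : lvl (w : GolayPt → ℤ) 6 = ∅ :=
        Finset.card_eq_zero.1 ((shp_card h (by norm_num)).trans (by decide +kernel))
      have hc := core_eq h evenStds.2.1.2.1
      rw [h6, Finset.union_empty] at hc
      have ho : lvl (w : GolayPt → ℤ) 2 ∈ octads := ⟨hc ▸ core_isW w.2,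
        (shp_card h (by norm_num)).trans (by decide +kernel)⟩
      obtain ⟨a, ha, e, eA, eB⟩ := exists_octad_in_out ho (p := A) (q := B)
        (mem_lvl.2 (by rw [hwA]; rfl)) (fun hm => by rw [mem_lvl, hwB] at hm; simp at hm)
      rw [hA, hB] at *
      have hp := pattern (h.trans f.symm) (fun i => (st_fix.2.1.2.1 i).2) (a := a) 0
        (one_level fv (by rw [fl, e]))
      exact reduce_two st_fix.2.1 ha eA eB hp (by rw [fA, hwA]) (by rw [fB, hwB]) v hvv
    · have := mem_vals_of_shp h bΩ A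
      rw [vΩ, hwA] at this
      simp at this

theorem exists_octad_out_out {o : Finset GolayPt} (ho : o ∈ octads) {q q' : GolayPt} (hqq : q ≠ q')
    (hq : q ∉ o) (hq' : q' ∉ o) :
    ∃ a ∈ M24, a • toSet octO = o ∧ a (bp 6) = q ∧ a (pt 6) = q' := by
  obtain ⟨p, hp⟩ := Finset.card_pos.1 (by rw [ho.2]; norm_num : 0 < o.card)
  obtain ⟨a, ha, e, -, e'⟩ := exists_octad_in_out ho hp hq
  have h1 : a⁻¹ q' ∉ toSet octO := fun hm => hq' (by
    rw [← e]
    have := Finset.smul_mem_smul_finset (a := a) hm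
    simpa using this)
  have h2 : a⁻¹ q' ≠ bp 6 := fun hm => hqq (by rw [← e', ← hm]; simp)
  obtain ⟨c, hcL, hc6⟩ := List.any_eq_true.1 (outPerms_check.2 _ h1 h2)
  have hchk := List.all_eq_true.1 outPerms_check.1 c hcL
  simp only [Bool.and_eq_true, beq_iff_eq] at hchk hc6
  have hok : okPerm c = true := okPerm_of_inM24 hchk.1.1
  have hc4 : toPerm c (bp 6) = bp 6 := by
    rw [toPerm_apply hok]
    show pt (img c (idx (bp 6))) = bp 6
    rw [show idx (bp 6) = 4 by decide, hchk.2]; decide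
  have hcq : toPerm c (pt 6) = a⁻¹ q' := by
    rw [toPerm_apply hok]
    show pt (img c (idx (pt 6))) = a⁻¹ q'
    rw [show idx (pt 6) = 6 by decide, hc6]
  refine ⟨a * toPerm c, mul_mem ha (toPerm_mem_M24 hchk.1.1), ?_, ?_, ?_⟩
  · rw [mul_smul, smul_toSet hok, hchk.1.2, e]
  · rw [Equiv.Perm.mul_apply, hc4, e']
  · rw [Equiv.Perm.mul_apply, hcq]; simp

theorem pairs_three {v w v' w' : leechLattice} (hv : sqNorm (v : GolayPt → ℤ) = 32)
    (hw : sqNorm (w : GolayPt → ℤ) = 48) (hd : dotInt (v : GolayPt → ℤ) (w : GolayPt → ℤ) = -16)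
    (hv' : sqNorm (v' : GolayPt → ℤ) = 32) (hw' : sqNorm (w' : GolayPt → ℤ) = 48)
    (hd' : dotInt (v' : GolayPt → ℤ) (w' : GolayPt → ℤ) = -16) :
    ∃ g : Co0, g • v = v' ∧ g • w = w' := by
  obtain ⟨-, -, v5, -, v3, -, -, vd, -, vf, -⟩ := vals_std
  obtain ⟨-, -, -, bD, bF, b3, b5⟩ := std_bounds
  obtain ⟨A, hA⟩ : ∃ A, A = bp 6 := ⟨_, rfl⟩
  obtain ⟨B, hB⟩ : ∃ B, B = pt 6 := ⟨_, rfl⟩
  have hAB : A ≠ B := by rw [hA, hB]; decide
  refine orbit_pair hAB (e := -16) (s := st48) ?_ ?_ hv hw hd hv' hw' hd'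
  · intro w hn hdot
    rw [dot_comm, dot_two hAB] at hdot
    have two2 : 8 ≤ (lvl (w : GolayPt → ℤ) 2).card → ∃ y : leechLattice,
        sqNorm (y : GolayPt → ℤ) = 32 ∧ dotInt (two A B 4 4) (y : GolayPt → ℤ) = 0 ∧
        dotInt (w : GolayPt → ℤ) (y : GolayPt → ℤ) = -16 := fun hk => by
      obtain ⟨c, hc, d, hd, hcd⟩ := Finset.one_lt_card.1 (outside_two A B (n := 6) hk
        |>.trans_lt' (by norm_num : 1 < 6))
      simp only [Finset.mem_sdiff, Finset.mem_insert, Finset.mem_singleton, not_or, mem_lvl] at hd hc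
      obtain ⟨y, y1, y2, y3⟩ := aux_two hAB hcd hc.2.1 hc.2.2 hd.2.1 hd.2.2 w
      exact ⟨y, y1, y2, by rw [y3, hc.1, hd.1]; rfl⟩
    rcases (classify w.2).2.1 hn with h | h | h | h
    · exact two2 (by rw [shp_card h (show 2 < 9 by norm_num)]; decide +kernel)
    · exact two2 (by rw [shp_card h (show 2 < 9 by norm_num)]; decide +kernel)
    · obtain ⟨c, hc⟩ := Finset.card_pos.1 (outside_two A B (n := 1)
        ((shp_card h (show 3 < 9 by norm_num)).trans (by decide +kernel) :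
          (lvl (w : GolayPt → ℤ) 3).card = 3).ge |>.trans_lt' (by norm_num : 0 < 1))
      obtain ⟨d, hd⟩ := Finset.card_pos.1 (outside_two A B (n := 19)
        ((shp_card h (show 1 < 9 by norm_num)).trans (by decide +kernel) :
          (lvl (w : GolayPt → ℤ) 1).card = 21).ge |>.trans_lt' (by norm_num : 0 < 19))
      simp only [Finset.mem_sdiff, Finset.mem_insert, Finset.mem_singleton, not_or, mem_lvl] at hd hc
      obtain ⟨y, y1, y2, y3⟩ := aux_two hAB (c := c) (d := d) (fun e => by rw [e] at hc; omega)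
        hc.2.1 hc.2.2 hd.2.1 hd.2.2 w
      exact ⟨y, y1, y2, by rw [y3, hc.1, hd.1]; rfl⟩
    · refine aux_oct w.2 fun i hiA hiB => ?_
      have hvA := mem_vals_of_shp h b5 A
      have hvB := mem_vals_of_shp h b5 B
      have hvi := mem_vals_of_shp h b5 i
      rw [v5] at hvA hvB hvi
      simp only [List.mem_cons, List.not_mem_nil, or_false] at hvA hvB hvi
      refine hvi.resolve_right fun h5 => ?_
      obtain ⟨p, hp⟩ := Finset.card_eq_one.1 ((shp_card h (show 5 < 9 by norm_num)).trans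
        (by decide +kernel) : (lvl (w : GolayPt → ℤ) 5).card = 1)
      have key : ∀ j, ((w : GolayPt → ℤ) j).natAbs = 5 → j = p := fun j hj => by
        have := mem_lvl.2 hj
        rwa [hp, Finset.mem_singleton] at this
      have : ((w : GolayPt → ℤ) A).natAbs = 5 ∨ ((w : GolayPt → ℤ) B).natAbs = 5 := by omega
      rcases this with h' | h'
      · exact hiA ((key i h5).trans (key A h').symm)
      · exact hiB ((key i h5).trans (key B h').symm)
  · intro v w hvv hn h1 h2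
    obtain ⟨-, -, f, -, -, -, -, -, -, fl, fl4, fA, fB, -, -, fv⟩ := st_facts
    have hwA : (w : GolayPt → ℤ) A = -4 := by omega
    have hwB : (w : GolayPt → ℤ) B = 0 := by omega
    rcases (classify w.2).2.1 hn with h | h | h | h
    · have := mem_vals_of_shp h bD A
      rw [vd, hwA] at this
      simp at this
    · have h6 : lvl (w : GolayPt → ℤ) 6 = ∅ :=
        Finset.card_eq_zero.1 ((shp_card h (by norm_num)).trans (by decide +kernel))
      have hc := core_eq h evenStds.2.2.2.1.2.1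
      rw [h6, Finset.union_empty] at hc
      have ho : lvl (w : GolayPt → ℤ) 2 ∈ octads := ⟨hc ▸ core_isW w.2,
        (shp_card h (by norm_num)).trans (by decide +kernel)⟩
      obtain ⟨q, hq⟩ := Finset.card_eq_one.1 ((shp_card h (show 4 < 9 by norm_num)).trans
        (by decide +kernel) : (lvl (w : GolayPt → ℤ) 4).card = 1)
      have hqA : A = q := by
        have : A ∈ lvl (w : GolayPt → ℤ) 4 := mem_lvl.2 (by rw [hwA]; rfl)
        rwa [hq, Finset.mem_singleton] at this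
      obtain ⟨a, ha, e, eA, eB⟩ := exists_octad_out_out ho hAB
        (fun hm => by rw [mem_lvl, hwA] at hm; simp at hm)
        (fun hm => by rw [mem_lvl, hwB] at hm; simp at hm)
      rw [← hqA] at hq
      rw [hA, hB] at *
      have hp := pattern (h.trans f.symm) (fun i => (st_fix.2.2.2.1 i).2) (a := a) 0
        (two_levels fv (by rw [fl, e]) (by rw [fl4, smul_single, eA, hq]))
      exact reduce_two st_fix.2.2 ha eA eB hp (by rw [fA, hwA]) (by rw [fB, hwB]) v hvv
    · have := mem_vals_of_shp h b3 A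
      rw [v3, hwA] at this
      simp at this
    · have := mem_vals_of_shp h b5 A
      rw [v5, hwA] at this
      simp at this

end CfsgLib.Leech
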