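import Cfsg.Agent.Lib.Leech.Trans
import Cfsg.Agent.Lib.Leech.Cross

/-! The invariant quadratic forms on the lattice modulo 2. -/
set_option autoImplicit false
set_option linter.all false
set_option maxRecDepth 20000

namespace CfsgLib.Leech

open Cfsg CfsgLib.Golay

/-- a test vector -/
def qU : GolayPt → ℤ := ofL [-4, 0, 0, 0, 4, 0, 0, 0, 0, 0, 0, 0, 0, 0, 0, 0, 0, 0, 0, 0, 0, 0, 0, 0]

/-- a test vector -/
def qV : GolayPt → ℤ := ofL [0, 4, 0, 0, 4, 0, 0, 0, 0, 0, 0, 0, 0, 0, 0, 0, 0, 0, 0, 0, 0, 0, 0, 0]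

/-- a test vector -/
def qW : GolayPt → ℤ := ofL [2, 2, 2, 2, 0, 2, 0, 0, 0, 0, 0, 0, 0, 0, 2, 0, 0, 2, 0, 0, 0, 0, 0, 2]

/-- a test vector -/
def pU : GolayPt → ℤ := ofL [4, 4, 0, 0, 0, 0, 0, 0, 0, 0, 0, 0, 0, 0, 0, 0, 0, 0, 0, 0, 0, 0, 0, 0]

/-- a test vector -/
def pV : GolayPt → ℤ := ofL [0, 0, 4, 4, 0, 0, 0, 0, 0, 0, 0, 0, 0, 0, 0, 0, 0, 0, 0, 0, 0, 0, 0, 0]

/-- a test vector -/
def pW : GolayPt → ℤ := ofL [0, 0, 0, -4, 4, 0, 0, 0, 0, 0, 0, 0, 0, 0, 0, 0, 0, 0, 0, 0, 0, 0, 0, 0]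

/-- the norm form modulo 2 -/
def nQ (v : leechLattice) : ZMod 2 := ((sqNorm (v : GolayPt → ℤ) / 16 : ℤ) : ZMod 2)

theorem nQ_of {v : leechLattice} {k : ℤ} (h : sqNorm (v : GolayPt → ℤ) = 16 * k) : nQ v = (k : ZMod 2) := by
  rw [nQ, h, Int.mul_ediv_cancel_left _ (by norm_num : (16 : ℤ) ≠ 0)]

theorem nQ_coset (v w : leechLattice) : nQ (v + (w + w)) = nQ v := by
  obtain ⟨k, hk⟩ := sixteen_dvd v.2
  obtain ⟨l, hl⟩ := sixteen_dvd w.2
  obtain ⟨d, hd⟩ := eight_dvd_dot v.2 w.2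
  have e : sqNorm ((v + (w + w) : leechLattice) : GolayPt → ℤ) = 16 * (k + 2 * (2 * l + d)) := by
    rw [AddSubgroup.coe_add, AddSubgroup.coe_add, sqNorm_add, ← two_nsmul, sqNorm_two_smul]
    have : dotInt (v : GolayPt → ℤ) (2 • (w : GolayPt → ℤ)) = 2 * dotInt (v : GolayPt → ℤ) w := by
      simp only [dotInt, Finset.mul_sum, Pi.smul_apply, nsmul_eq_mul]
      exact Finset.sum_congr rfl fun i _ => by push_cast; ring
    rw [this, hk, hl, hd]; ring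
  rw [nQ_of e, nQ_of hk]
  push_cast
  rw [show (2 : ZMod 2) = 0 from rfl, zero_mul, add_zero]

theorem nQ_quad (u v w : leechLattice) :
    nQ (u + v + w) + nQ u + nQ v + nQ w = nQ (u + v) + nQ (u + w) + nQ (v + w) := by
  obtain ⟨a, ha⟩ := sixteen_dvd (u + v + w).2
  obtain ⟨b, hb⟩ := sixteen_dvd u.2
  obtain ⟨c, hc⟩ := sixteen_dvd v.2
  obtain ⟨d, hd⟩ := sixteen_dvd w.2
  obtain ⟨p, hp⟩ := sixteen_dvd (u + v).2
  obtain ⟨q, hq⟩ := sixteen_dvd (u + w).2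
  obtain ⟨r, hr⟩ := sixteen_dvd (v + w).2
  have e : a + b + c + d = p + q + r := by
    have : sqNorm ((u + v + w : leechLattice) : GolayPt → ℤ) + sqNorm (u : GolayPt → ℤ) +
        sqNorm (v : GolayPt → ℤ) + sqNorm (w : GolayPt → ℤ) =
        sqNorm ((u + v : leechLattice) : GolayPt → ℤ) + sqNorm ((u + w : leechLattice) : GolayPt → ℤ)
          + sqNorm ((v + w : leechLattice) : GolayPt → ℤ) := by
      simp only [sqNorm, AddSubgroup.coe_add, Pi.add_apply, ← Finset.sum_add_distrib]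
      exact Finset.sum_congr rfl fun i _ => by ring
    linarith
  rw [nQ_of ha, nQ_of hb, nQ_of hc, nQ_of hd, nQ_of hp, nQ_of hq, nQ_of hr]
  exact_mod_cast congrArg (fun x : ℤ => (x : ZMod 2)) e

theorem nQ_inv (g : Co0) (v : leechLattice) : nQ (g • v) = nQ v := by
  rw [nQ, co0_norm, nQ]

theorem test_facts : (MemB qU ∧ MemB qV ∧ MemB qW ∧ MemB pU ∧ MemB pV ∧ MemB pW) ∧
    (sqNorm qU = 32 ∧ sqNorm qV = 32 ∧ sqNorm qW = 32 ∧ sqNorm (qU - qV) = 32 ∧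
      sqNorm (qU + qW) = 48 ∧ sqNorm (qV - qW) = 48 ∧ sqNorm (qU - qV + qW) = 32) ∧
    sqNorm pU = 32 ∧ sqNorm pV = 32 ∧ sqNorm pW = 32 ∧ sqNorm (pU + pV) = 64 ∧
      sqNorm (pU + pW) = 64 ∧ sqNorm (pV + pW) = 32 ∧ sqNorm (pU + pV + pW) = 64 := by
  decide +kernel

theorem two_form (a : ZMod 2) : a + a = 0 := CharTwo.add_self_eq_zero a

variable (Q : leechLattice → ZMod 2) (hcoset : ∀ v w : leechLattice, Q (v + (w + w)) = Q v)
  (hquad : ∀ u v w : leechLattice,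
    Q (u + v + w) + Q u + Q v + Q w = Q (u + v) + Q (u + w) + Q (v + w))
  (hinv : ∀ (g : Co0) (v : leechLattice), Q (g • v) = Q v)
include hcoset hquad hinv

/-- a form vanishing on the vectors of sum of squares 48 vanishes -/
theorem quad_zero (h48 : ∀ v : leechLattice, sqNorm (v : GolayPt → ℤ) = 48 → Q v = 0)
    (v : leechLattice) : Q v = 0 := by
  have e0 : Q 0 = 0 := by
    have := hquad 0 0 0
    simp only [add_zero] at this
    generalize Q 0 = a at this ⊢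
    revert a; decide
  have hsub : ∀ a b : leechLattice, Q (a - b) = Q (a + b) := fun a b => by
    rw [← hcoset (a - b) b]; congr 1; abel
  have c32 : ∀ a b : leechLattice, sqNorm (a : GolayPt → ℤ) = 32 → sqNorm (b : GolayPt → ℤ) = 32 →
      Q a = Q b := fun a b ha hb => by
    obtain ⟨g, hg⟩ := to_co0 ((equi_omega a.2 ha).trans (equi_omega b.2 hb).symm)
    rw [← hg, hinv]
  have c64 : ∀ a b : leechLattice, sqNorm (a : GolayPt → ℤ) = 64 → sqNorm (b : GolayPt → ℤ) = 64 →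
      Q a = Q b := fun a b ha hb => by
    obtain ⟨g, z, hz, e⟩ := crosses_transitive a b ha hb
    have e' : g • a = b + (⟨z, hz⟩ + ⟨z, hz⟩) := Subtype.ext (by
      push_cast
      rw [← two_nsmul, ← e]; abel)
    rw [← hinv g a, e', hcoset]
  obtain ⟨⟨m1, m2, m3, m4, m5, m6⟩, ⟨n1, n2, n3, n4, n5, n6, n7⟩, p1, p2, p3, p4, p5, p6, p7⟩ :=
    test_facts
  have h32 : ∀ a : leechLattice, sqNorm (a : GolayPt → ℤ) = 32 → Q a = 0 := by
    have h := hquad ⟨qU, mem_of_memB m1⟩ ⟨qV, mem_of_memB m2⟩ ⟨qW, mem_of_memB m3⟩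
    obtain ⟨u, hu⟩ : ∃ u : leechLattice, u = ⟨qU, mem_of_memB m1⟩ := ⟨_, rfl⟩
    obtain ⟨x, hx⟩ : ∃ x : leechLattice, x = ⟨qV, mem_of_memB m2⟩ := ⟨_, rfl⟩
    obtain ⟨y, hy⟩ : ∃ y : leechLattice, y = ⟨qW, mem_of_memB m3⟩ := ⟨_, rfl⟩
    rw [← hu, ← hx, ← hy] at h
    have k1 : Q (u + x + y) = Q u := by
      rw [show u + x + y = u - x + y + (x + x) by abel, hcoset]
      refine c32 _ _ ?_ (hu ▸ n1)
      subst hu hx hy; exact n7
    have k2 : Q (u + x) = Q u := by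
      rw [← hsub]; refine c32 _ _ ?_ (hu ▸ n1)
      subst hu hx; exact n4
    have k3 : Q (u + y) = 0 := h48 _ (by subst hu hy; exact n5)
    have k4 : Q (x + y) = 0 := by
      rw [← hsub]; exact h48 _ (by subst hx hy; exact n6)
    rw [k1, k2, k3, k4, c32 x u (hx ▸ n2) (hu ▸ n1), c32 y u (hy ▸ n3) (hu ▸ n1)] at h
    intro a ha
    rw [c32 a u ha (hu ▸ n1)]
    generalize Q u = q at h ⊢
    revert q; decide
  have h64 : ∀ a : leechLattice, sqNorm (a : GolayPt → ℤ) = 64 → Q a = 0 := by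
    obtain ⟨u, hu⟩ : ∃ u : leechLattice, u = ⟨pU, mem_of_memB m4⟩ := ⟨_, rfl⟩
    obtain ⟨x, hx⟩ : ∃ x : leechLattice, x = ⟨pV, mem_of_memB m5⟩ := ⟨_, rfl⟩
    obtain ⟨y, hy⟩ : ∃ y : leechLattice, y = ⟨pW, mem_of_memB m6⟩ := ⟨_, rfl⟩
    have h := hquad u x y
    have t : sqNorm ((u + x : leechLattice) : GolayPt → ℤ) = 64 := by subst hu hx; exact p4
    have k1 : Q (u + x + y) = Q (u + x) := c64 _ _ (by subst hu hx hy; exact p7) t
    have k3 : Q (u + y) = Q (u + x) := c64 _ _ (by subst hu hy; exact p5) t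
    rw [k1, k3, h32 u (hu ▸ p1), h32 x (hx ▸ p2), h32 y (hy ▸ p3),
      h32 (x + y) (by subst hx hy; exact p6)] at h
    intro a ha
    rw [c64 a (u + x) ha t]
    generalize Q (u + x) = q at h ⊢
    revert q; decide
  obtain ⟨y, hy, hyn, -, z, hz, e⟩ := short_all v.2
  have ev : v = ⟨y, hy⟩ + (⟨z, hz⟩ + ⟨z, hz⟩) := Subtype.ext (by
    push_cast
    rw [← two_nsmul, ← e]; abel)
  rw [ev, hcoset]
  obtain ⟨k, hk⟩ := sixteen_dvd hy
  by_cases h0 : y = 0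
  · subst h0; exact e0
  have := sqNorm_ge_32 hy h0
  have : k = 2 ∨ k = 3 ∨ k = 4 := by omega
  rcases this with rfl | rfl | rfl
  · exact h32 _ (by rw [hk]; norm_num)
  · exact h48 _ (by rw [hk]; norm_num)
  · exact h64 _ (by rw [hk]; norm_num)

/-- the only invariant forms are the multiples of the norm form -/
theorem invariant_quad : ∃ c : ZMod 2, ∀ v, Q v = c * nQ v := by
  obtain ⟨c, hc⟩ : ∃ c : ZMod 2, ∀ v : leechLattice, sqNorm (v : GolayPt → ℤ) = 48 → Q v = c := by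
    by_cases h : ∃ v : leechLattice, sqNorm (v : GolayPt → ℤ) = 48 ∧ Q v = 1
    · obtain ⟨w, hw, hw1⟩ := h
      refine ⟨1, fun v hv => ?_⟩
      obtain ⟨g, hg⟩ := to_co0 ((equi_three w.2 hw).trans (equi_three v.2 hv).symm)
      rw [← hg, hinv, hw1]
    · push_neg at h
      refine ⟨0, fun v hv => ?_⟩
      have := h v hv
      generalize Q v = q at this ⊢
      revert q; decide
  refine ⟨c, fun v => CharTwo.add_eq_zero.1 (quad_zero (fun v => Q v + c * nQ v) ?_ ?_ ?_ ?_ v)⟩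
  · intro v w; simp only [hcoset, nQ_coset]
  · intro u v w
    linear_combination hquad u v w + c * nQ_quad u v w
  · intro g v; simp only [hinv, nQ_inv]
  · intro v hv
    simp only [hc v hv, nQ_of (k := 3) (by rw [hv]; norm_num)]
    generalize c = q
    revert q; decide

end CfsgLib.Leech
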